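import Mathlib
import Cfsg.Agent.Lib.ChevBorelTits.Final
import Cfsg.Agent.Lib.SLBlocks49.Count

/-!
A non-trivial radical `p`-subgroup of a Chevalley group in characteristic `p` is the unipotent radical
of a parabolic, so it contains its centraliser.
-/

set_option autoImplicit false
set_option linter.style.haveILetI false

namespace Cfsg.Agent.Lib.ChevBlocks49.Constrained

open Cfsg.Lie Cfsg.Agent.Lib.ChevStructure Cfsg.Agent.Lib.ChevBorelTits
open scoped MatrixGroups

variable {D : ChevalleyDatum} {C : Core D} (H : CommOK C) (hL : LinkedTable D)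
  {F : Type*} [Field F] [Fintype F] (p : ℕ) [Fact p.Prime] [CharP F p]

omit [Fact (Nat.Prime p)] in
include H in
/-- The group `U` of a Chevalley group in characteristic `p` is a `p`-group. -/
theorem isPGroup_posUS : IsPGroup p (C.US F C.Pos) := by
  obtain ⟨m, -, hm⟩ := FiniteField.card F p
  refine IsPGroup.of_card (n := m * (D.nroots / 2)) ?_
  rw [H.card_posUS, Nat.card_eq_fintype_card, hm, ← pow_mul]

theorem eq_of_normalizer_inf {G : Type*} [Group G] [Finite G] {R Q : Subgroup G} (hQ : IsPGroup p Q)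
    (hRQ : R ≤ Q) (h : Q ⊓ Subgroup.normalizer (R : Set G) = R) : Q = R := by
  by_contra hne
  have htop : R.subgroupOf Q ≠ ⊤ := fun e => hne (le_antisymm (Subgroup.subgroupOf_eq_top.mp e) hRQ)
  have hlt := (Group.normalizerCondition_of_isNilpotent (G := Q) (h := hQ.isNilpotent)) (R.subgroupOf Q)
    (lt_top_iff_ne_top.mpr htop)
  obtain ⟨x, hxN, hxR⟩ := SetLike.exists_of_lt hlt
  refine hxR (Subgroup.mem_subgroupOf.mpr ?_)
  suffices hx : (x : G) ∈ Subgroup.normalizer (R : Set G) by
    rw [← h]; exact ⟨x.2, hx⟩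
  refine Subgroup.mem_normalizer_iff.mpr fun r => ⟨fun hr => ?_, fun hr => ?_⟩
  · have := (Subgroup.mem_normalizer_iff.mp hxN ⟨r, hRQ hr⟩).mp hr
    simpa [Subgroup.mem_subgroupOf] using this
  · have hrQ : r ∈ Q := by
      have := mul_mem (mul_mem (inv_mem x.2) (hRQ hr)) x.2
      simpa [mul_assoc] using this
    exact (Subgroup.mem_normalizer_iff.mp hxN ⟨r, hrQ⟩).mpr (by simpa [Subgroup.mem_subgroupOf] using hr)

include H hL in
theorem constrained : SLBlocks49.Count.Constrained p (⊥ : Subgroup (D.group F)) := by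
  classical
  intro R hR hne hrad g hg
  have hne' : R.map (D.group F).subtype ≠ ⊥ := by
    rwa [Ne, Subgroup.map_eq_bot_iff_of_injective _ (D.group F).subtype_injective]
  obtain ⟨x, hx, J, hJ, hN, hRU⟩ := borel_tits C F H (bruHyp H F) (parHyp H F) p (R.map (D.group F).subtype)
    (Subgroup.map_subtype_le R) (hR.map _) hne'
  have hnorm : ∀ n ∈ Subgroup.normalizer (R : Set ↥(D.group F)), ∃ y ∈ D.parabolicSubgroup F J,
      (n : GL D.Idx F) = x * y * x⁻¹ := by
    intro n hn
    obtain ⟨y, hy, e⟩ := hN ⟨Subgroup.le_normalizer_map (D.group F).subtype ⟨n, hn, rfl⟩, n.2⟩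
    exact ⟨y, hy, e.symm⟩
  set Q : Subgroup ↥(D.group F) := ((D.unipotentRadical F J).map (MulAut.conj x).toMonoidHom).subgroupOf (D.group F) with hQdef
  have hmemQ : ∀ q : ↥(D.group F), q ∈ Q ↔ x⁻¹ * (q : GL D.Idx F) * x ∈ D.unipotentRadical F J := fun q => by
    rw [hQdef, Subgroup.mem_subgroupOf, Subgroup.mem_map_equiv, MulAut.conj_symm_apply]
  have hUle : D.unipotentRadical F J ≤ C.US F C.Pos := by
    rw [radical_eq C F J]; exact UF_le_pos C F (outJ_nonneg C J) one_pos
  have hQp : IsPGroup p Q :=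
    (((isPGroup_posUS H p).to_le hUle).map _).comap_of_injective (D.group F).subtype (D.group F).subtype_injective
  have hRQ : R ≤ Q := fun r hr => hRU ⟨r, hr, rfl⟩
  have hQN : ∀ n ∈ Subgroup.normalizer (R : Set ↥(D.group F)), n ∈ Subgroup.normalizer (Q : Set ↥(D.group F)) := by
    intro n hn
    obtain ⟨y, hy, e⟩ := hnorm n hn
    have hyN : y ∈ Subgroup.normalizer (D.unipotentRadical F J : Set (GL D.Idx F)) := by
      rw [radical_eq C F J]
      exact Subgroup.mem_iInf.1 (parabolic_le_stab C F H J hy).2 ⟨1, one_pos⟩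
    refine Subgroup.mem_normalizer_iff.mpr fun q => ?_
    rw [hmemQ, hmemQ, Subgroup.mem_normalizer_iff.mp hyN]
    simp only [Subgroup.coe_mul, Subgroup.coe_inv, e]
    group
  have hQR : Q = R := by
    refine eq_of_normalizer_inf p hQp hRQ (hrad _ (hQp.to_le inf_le_left) (le_inf hRQ Subgroup.le_normalizer)
      inf_le_right fun n hn => ?_)
    refine Subgroup.mem_normalizer_iff.mpr fun q => ?_
    simp only [Subgroup.mem_inf, ← Subgroup.mem_normalizer_iff.mp (hQN n hn) q,
      ← Subgroup.mem_normalizer_iff.mp (Subgroup.le_normalizer hn) q]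
  have hCp : IsPGroup p (Subgroup.centralizer (R : Set ↥(D.group F))) := by
    refine IsPGroup.to_le (((isPGroup_posUS H p).map (MulAut.conj x).toMonoidHom).comap_of_injective (D.group F).subtype
      (D.group F).subtype_injective) fun c hc => ?_
    obtain ⟨y, hy, e⟩ := hnorm c (Subgroup.centralizer_le_normalizer _ hc)
    refine ⟨y, centralizer_le_US C F H (parHyp H F) hL J hJ ⟨hy, ?_⟩, e.symm⟩
    refine Subgroup.mem_centralizer_iff.mpr fun u hu => ?_
    have huG : x * u * x⁻¹ ∈ D.group F :=
      mul_mem (mul_mem hx ((C.US_le_group _) (hUle hu))) (inv_mem hx)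
    have hq : (⟨_, huG⟩ : ↥(D.group F)) ∈ R := by
      rw [← hQR, hmemQ]
      simpa [mul_assoc] using hu
    have hcomm := congrArg Subtype.val (Subgroup.mem_centralizer_iff.mp hc _ hq)
    simp only [Subgroup.coe_mul, e] at hcomm
    calc u * y = x⁻¹ * (x * u * x⁻¹ * (x * y * x⁻¹)) * x := by group
      _ = y * u := by rw [hcomm]; group
  refine ⟨1, one_mem _, g, ?_, (one_mul g).symm⟩
  have hS : R ⊔ Subgroup.centralizer (R : Set ↥(D.group F)) = R := by
    refine hrad _ ?_ le_sup_left (sup_le Subgroup.le_normalizer (Subgroup.centralizer_le_normalizer _)) ?_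
    · exact hR.to_sup_of_normal_left' hCp (Subgroup.centralizer_le_normalizer _)
    · intro n hn
      refine Subgroup.mem_normalizer_iff.mpr fun q => ?_
      have key : ∀ m ∈ Subgroup.normalizer (R : Set ↥(D.group F)), ∀ q ∈ R ⊔ Subgroup.centralizer (R : Set ↥(D.group F)),
          m * q * m⁻¹ ∈ R ⊔ Subgroup.centralizer (R : Set ↥(D.group F)) := by
        intro m hm q hq
        have hle : R ⊔ Subgroup.centralizer (R : Set ↥(D.group F)) ≤
            (R ⊔ Subgroup.centralizer (R : Set ↥(D.group F))).comap (MulAut.conj m).toMonoidHom := by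
          refine sup_le (fun r hr => Subgroup.mem_sup_left ((Subgroup.mem_normalizer_iff.mp hm r).mp hr))
            fun c hc => Subgroup.mem_sup_right ?_
          refine Subgroup.mem_centralizer_iff.mpr fun r hr => ?_
          have h' := Subgroup.mem_centralizer_iff.mp hc _ ((Subgroup.mem_normalizer_iff''.mp hm r).mp hr)
          show r * (m * c * m⁻¹) = m * c * m⁻¹ * r
          calc r * (m * c * m⁻¹) = m * (m⁻¹ * r * m * c) * m⁻¹ := by group
            _ = _ := by rw [h']; group
        exact hle hq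
      refine ⟨key n hn q, fun h => ?_⟩
      have := key n⁻¹ (inv_mem hn) _ h
      simpa [mul_assoc] using this
  exact hS ▸ Subgroup.mem_sup_right hg

end Cfsg.Agent.Lib.ChevBlocks49.Constrained
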