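import Mathlib
import Cfsg.Agent.Lib.ChevBlocks49.Constrained
import Cfsg.Agent.Lib.ChevStructure.NormalForm
import Cfsg.Agent.Lib.ChevStructure.Poincare
import Cfsg.Agent.Lib.ChevStructure.RankOne
import Cfsg.Agent.Lib.SLBlocks49.Hecke

/-!
A Chevalley group in its defining characteristic has at most one irreducible character of defect
zero: the number of `u ∈ U` with `u y` in `V h U` (`V` opposite to `U`, `h ∈ H`) does not depend
on `h` modulo `p`.
-/

set_option autoImplicit false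
set_option linter.style.haveILetI false
set_option linter.unusedSectionVars false

namespace Cfsg.Agent.Lib.ChevBlocks49.Cell

open Cfsg.Lie Cfsg.Agent.Lib.ChevStructure
open scoped MatrixGroups

variable {D : ChevalleyDatum} {C : Core D} (H : CommOK C) {F : Type*} [Field F]

/-- The subset `V h U` of the big cell. -/
def CellAt (C : Core D) (F : Type*) [Field F] (h : GL D.Idx F) : Set (GL D.Idx F) :=
  {g | ∃ m ∈ C.US F C.Neg, ∃ v ∈ C.US F C.Pos, g = m * h * v}

/-- The negative roots other than `-p_i`. -/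
def negBut (C : Core D) (i : Fin D.rank) : Set (Rt D) := C.Neg \ {(C.p i).rev}

include H

theorem cell_unique {m m' h h' v v' : GL D.Idx F} (hm : m ∈ C.US F C.Neg) (hm' : m' ∈ C.US F C.Neg)
    (hh : h ∈ D.diagonalSubgroup F) (hh' : h' ∈ D.diagonalSubgroup F) (hv : v ∈ C.US F C.Pos)
    (hv' : v' ∈ C.US F C.Pos) (e : m * h * v = m' * h' * v') : m = m' ∧ h = h' ∧ v = v' := by
  have e1 : m'⁻¹ * m = h' * (v' * v⁻¹) * h⁻¹ := by
    calc m'⁻¹ * m = m'⁻¹ * (m * h * v) * v⁻¹ * h⁻¹ := by group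
      _ = _ := by rw [e]; group
  have hz : m'⁻¹ * m ∈ D.borelSubgroup F ⊓ C.US F C.Neg := by
    refine Subgroup.mem_inf.2 ⟨?_, mul_mem (inv_mem hm') hm⟩
    rw [e1]
    exact mul_mem (mul_mem (C.diagonal_le_borel hh') (C.posUS_le_borel (mul_mem hv' (inv_mem hv))))
      (inv_mem (C.diagonal_le_borel hh))
  rw [C.borel_inf_negUS, Subgroup.mem_bot, inv_mul_eq_one] at hz
  subst hz
  rw [mul_assoc, mul_assoc, mul_left_cancel_iff] at e
  have hz2 : h'⁻¹ * h ∈ C.US F C.Pos ⊓ D.diagonalSubgroup F := by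
    refine Subgroup.mem_inf.2 ⟨?_, mul_mem (inv_mem hh') hh⟩
    rw [show h'⁻¹ * h = v' * v⁻¹ by rw [← mul_right_inj h', ← mul_left_inj v]; simp [mul_assoc, e]]
    exact mul_mem hv' (inv_mem hv)
  rw [C.US_inf_diagonal, Subgroup.mem_bot, inv_mul_eq_one] at hz2
  subst hz2
  exact ⟨rfl, rfl, mul_left_cancel e⟩

theorem absorb_negBut (i : Fin D.rank) :
    C.Absorb (C.p i) (negBut C i) ∧ C.Absorb (C.p i).rev (negBut C i) := by
  have key : ∀ r : Rt D, (∀ m, m ≠ i → C.v r m = 0) → ∀ s ∈ negBut C i, s ≠ r → ∀ (q : Rt D) (a b : ℕ),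
      1 ≤ a → 1 ≤ b → C.v q = (a : ℤ) • C.v r + (b : ℤ) • C.v s → q ∈ negBut C i := by
    intro r hr s hs _ q a b _ hb hv
    have hs' : s.rev ∈ C.posBut i :=
      ⟨C.rev_pos hs.1, fun h => hs.2 (by rw [Set.mem_singleton_iff] at h ⊢; rw [← h, C.rev_rev])⟩
    have hq := C.combo_mem_posBut (i := i) (r := r.rev) (q := q.rev) (a := a)
      (fun m hm => by rw [C.v_rev, Pi.neg_apply, hr m hm, neg_zero]) hb hs'
      (by rw [C.v_rev, C.v_rev, C.v_rev, hv, neg_add, smul_neg, smul_neg])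
    refine ⟨?_, fun h => hq.2 (by rw [Set.mem_singleton_iff] at h ⊢; rw [h, C.rev_rev])⟩
    have := C.rev_neg hq.1
    rwa [C.rev_rev] at this
  refine ⟨⟨fun h => h.2 rfl, key (C.p i) fun m hm => by simp [C.v_p, hm]⟩,
    ⟨fun h => ?_, key (C.p i).rev fun m hm => by simp [C.v_rev, C.v_p, hm]⟩⟩
  rw [C.rev_rev] at h
  exact (C.neg_iff_not_pos _).1 h.1 (C.p_pos i)

theorem conj_negBut (i : Fin D.rank) {g m : GL D.Idx F}
    (hg : g ∈ C.US F {C.p i} ⊔ C.US F {(C.p i).rev}) (hm : m ∈ C.US F (negBut C i)) :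
    g * m * g⁻¹ ∈ C.US F (negBut C i) := by
  have hle : C.US F {C.p i} ⊔ C.US F {(C.p i).rev} ≤
      Subgroup.normalizer (C.US F (negBut C i) : Set (GL D.Idx F)) := by
    refine sup_le ((Subgroup.closure_le _).2 ?_) ((Subgroup.closure_le _).2 ?_) <;>
      rintro x ⟨r, rfl, t, rfl⟩
    · exact H.mem_normalizer (absorb_negBut H i).1 t
    · exact H.mem_normalizer (absorb_negBut H i).2 t
  exact (Subgroup.mem_normalizer_iff.1 (hle hg) m).1 hm

theorem exists_split_neg (i : Fin D.rank) {m : GL D.Idx F} (hm : m ∈ C.US F C.Neg) :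
    ∃ b, ∃ m0 ∈ C.US F (negBut C i), m = C.X F (C.p i).rev b * m0 := by
  have hsup : C.US F C.Neg ≤ C.US F (negBut C i) ⊔ C.US F {(C.p i).rev} := by
    refine (Subgroup.closure_le _).2 ?_
    rintro g ⟨r, hr, t, rfl⟩
    by_cases h : r = (C.p i).rev
    · exact Subgroup.mem_sup_right (C.X_mem_US F (S := {(C.p i).rev}) h t)
    · exact Subgroup.mem_sup_left (C.X_mem_US F (S := negBut C i) ⟨hr, h⟩ t)
  have hn : C.US F {(C.p i).rev} ≤ Subgroup.normalizer (C.US F (negBut C i) : Set (GL D.Idx F)) := by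
    refine (Subgroup.closure_le _).2 ?_
    rintro x ⟨r, rfl, t, rfl⟩
    exact H.mem_normalizer (absorb_negBut H i).2 t
  have h2 := hsup hm
  rw [← SetLike.mem_coe, Subgroup.coe_mul_of_right_le_normalizer_left _ _ hn, Set.mem_mul] at h2
  obtain ⟨a, ha, b, hb, rfl⟩ := h2
  obtain ⟨t, rfl⟩ := C.mem_US_singleton hb
  refine ⟨t, (C.X F (C.p i).rev t)⁻¹ * a * C.X F (C.p i).rev t, ?_, by group⟩
  have := conj_negBut H i (Subgroup.mem_sup_right (inv_mem (C.X_mem_US F (S := {(C.p i).rev}) rfl t))) ha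
  rwa [inv_inv] at this

/-- `x_r(c) x_{-r}(b)` in the opposite big cell of `⟨X_r, X_{-r}⟩`. -/
theorem rank_one (r : Rt D) (c b : F) :
    (∀ d : Fˣ, (d : F) = 1 + c * b → C.X F r c * C.X F r.rev b =
      C.X F r.rev (b * (↑d⁻¹ : F)) * Core.hD F r d * C.X F r (c * (↑d⁻¹ : F))) ∧
    (1 + c * b = 0 → ∀ d : Fˣ, (d : F) = c → C.X F r c * C.X F r.rev b = C.nR F r d * C.X F r (-c)) := by
  obtain ⟨φ, -, hφ⟩ := C.exists_slHom F r
  have hN : ∀ u : Fˣ, φ (slN u) = C.nR F r u := by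
    intro u
    rw [slN, map_mul, map_mul, (hφ _).1, (hφ _).2]
    rfl
  have hH : ∀ u : Fˣ, φ (slH u) = Core.hD F r u := by
    intro u
    rw [slH, map_mul, hN, hN, C.hR_eq]
  rw [← (hφ c).1, ← (hφ b).2, ← map_mul]
  refine ⟨fun d hd => ?_, fun h0 d hd => ?_⟩
  · rw [← (hφ _).2, ← hH, ← (hφ _).1, ← map_mul, ← map_mul]
    congr 1
    apply Subtype.ext
    have hd0 : (1 : F) + c * b ≠ 0 := hd ▸ d.ne_zero
    simp only [Matrix.SpecialLinearGroup.coe_mul, slU_val, slL_val, slH_val, Matrix.mul_fin_two,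
      Units.val_inv_eq_inv_val, hd]
    have hd1 : (1 : F) + b * c ≠ 0 := by rwa [mul_comm b c]
    ext a e
    fin_cases a <;> fin_cases e <;> simp
    all_goals field_simp
    all_goals ring
  · rw [← hN, ← (hφ _).1, ← map_mul]
    congr 1
    apply Subtype.ext
    have hc0 : c ≠ 0 := hd ▸ d.ne_zero
    simp only [Matrix.SpecialLinearGroup.coe_mul, slU_val, slL_val, slN_val, Matrix.mul_fin_two,
      Units.val_inv_eq_inv_val, hd]
    ext a e
    fin_cases a <;> fin_cases e <;> simp <;> field_simp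
    · linear_combination h0
    · linear_combination h0

theorem hD_mul (r : Rt D) (a b : Fˣ) : Core.hD F r a * Core.hD F r b = Core.hD F r (a * b) := by
  rw [C.hD_eq_HT, C.hD_eq_HT, C.hD_eq_HT, C.HT_mul]
  congr 1
  funext j
  exact (mul_zpow a b _).symm

theorem hD_mem (r : Rt D) (a : Fˣ) : Core.hD F r a ∈ D.diagonalSubgroup F := by
  rw [C.hD_eq_HT]; exact C.HT_mem_diagonal _

variable (σ : C.WG) (hσ : ∀ r ∈ C.Pos, (σ : Equiv.Perm (Rt D)) r ∈ C.Neg)

include hσ

theorem map_conj_pos :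
    (C.US F C.Pos).map (MulAut.conj (C.rep F σ)).toMonoidHom = C.US F C.Neg := by
  rw [C.map_conj_US F (C.acts_rep F σ)]
  congr 1
  refine Set.Subset.antisymm (Set.image_subset_iff.2 hσ) fun s hs => ?_
  refine ⟨(σ : Equiv.Perm (Rt D)).symm s, ?_, Equiv.apply_symm_apply _ _⟩
  by_contra hn
  have h := hσ _ (C.rev_pos ((C.neg_iff_not_pos _).2 hn))
  rw [C.WG_rev, Equiv.apply_symm_apply] at h
  exact (C.neg_iff_not_pos _).1 h (C.rev_pos hs)

theorem inv'_eq : C.inv' (σ : Equiv.Perm (Rt D)) = C.Pos :=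
  Set.ext fun r => ⟨fun h => h.1, fun h => ⟨h, hσ r h⟩⟩

/-- `nR` is outside `V H U`. -/
theorem nR_not_mem (i : Fin D.rank) (d : Fˣ) {m h v : GL D.Idx F} (hm : m ∈ C.US F C.Neg)
    (hh : h ∈ D.diagonalSubgroup F) (hv : v ∈ C.US F C.Pos) : C.nR F (C.p i) d ≠ m * h * v := by
  intro e
  set n := C.rep F σ with hn
  have hN : n ∈ D.monomialSubgroup F := C.rep_mem σ
  obtain ⟨c, hc⟩ := C.nR_p F i d
  have hR : C.nR F (C.p i) d ∈ D.monomialSubgroup F := by
    rw [hc]; exact mul_mem (C.HT_mem_monomial c) (C.P_mem_monomial i)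
  have hd : n * n ∈ D.diagonalSubgroup F := by
    refine C.mem_diagonal_of_acts_one (mul_mem hN hN) ?_
    have h2 : σ * σ = 1 := by
      refine Subtype.ext (C.eq_one_of_len_zero (σ * σ).2 ?_)
      rw [Core.len, Set.ncard_eq_zero, Set.eq_empty_iff_forall_notMem]
      rintro r ⟨hr, hn'⟩
      have h1 := hσ _ (C.rev_pos (hσ r hr))
      rw [C.WG_rev] at h1
      exact (C.neg_iff_not_pos _).1 hn' (by simpa [C.rev_rev] using C.rev_pos h1)
    have := C.acts_mul F (C.acts_rep F σ) (C.acts_rep F σ)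
    rwa [← Subgroup.coe_mul, h2, Subgroup.coe_one] at this
  have hnm : n * m * n⁻¹ ∈ C.US F C.Pos := by
    obtain ⟨u, hu, rfl⟩ := (map_conj_pos H σ hσ).ge hm
    show n * (n * u * n⁻¹) * n⁻¹ ∈ _
    rw [show n * (n * u * n⁻¹) * n⁻¹ = (n * n) * u * (n * n)⁻¹ by group]
    exact (Subgroup.mem_normalizer_iff.1 (C.diag_le_normalizer C.Pos hd) u).1 hu
  have e2 : n * C.nR F (C.p i) d = (n * m * n⁻¹ * (n * h * n⁻¹)) * n * v := by rw [e]; group
  have h3 := H.bruhat_unique hN (mul_mem hN hR)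
    (mul_mem (C.posUS_le_borel hnm) (C.diagonal_le_borel (C.conj_diagonal hN hh)))
    (C.posUS_le_borel hv) e2
  rw [inv_mul_cancel_left, hc] at h3
  have h4 : C.P F i ∈ D.borelSubgroup F := C.diagonal_le_borel (by
    have := mul_mem (inv_mem (C.HT_mem_diagonal (F := F) c)) h3
    rwa [inv_mul_cancel_left] at this)
  exact C.P_X_P_not_mem (F := F) i (mul_mem (mul_mem h4 (C.X_mem_borel (C.p_pos i) 1)) h4)

variable [Fintype F] (p : ℕ) [Fact p.Prime] [CharP F p]

/-- The count along one root subgroup does not depend on the coroot value modulo `p`. -/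
theorem fibre (i : Fin D.rank) (h z : GL D.Idx F) (hh : h ∈ D.diagonalSubgroup F) (l : Fˣ) :
    ((Nat.card {c : F // C.X F (C.p i) c * z ∈ CellAt C F (Core.hD F (C.p i) l * h)} : ℕ) : ZMod p) =
      ((Nat.card {c : F // C.X F (C.p i) c * z ∈ CellAt C F (Core.hD F (C.p i) 1 * h)} : ℕ) : ZMod p) := by
  classical
  by_cases hex : ∃ (l0 : Fˣ) (c0 : F), C.X F (C.p i) c0 * z ∈ CellAt C F (Core.hD F (C.p i) l0 * h)
  swap
  · have : ∀ l' : Fˣ, IsEmpty {c : F // C.X F (C.p i) c * z ∈ CellAt C F (Core.hD F (C.p i) l' * h)} :=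
      fun l' => ⟨fun c => hex ⟨l', c.1, c.2⟩⟩
    rw [@Nat.card_of_isEmpty _ (this l), @Nat.card_of_isEmpty _ (this 1)]
  obtain ⟨l0, c0, m, hm, v, hv, e⟩ := hex
  obtain ⟨b, m0, hm0, rfl⟩ := exists_split_neg H i hm
  set r := C.p i with hr
  set h0 := Core.hD F r l0 * h with hh0
  have hh0' : h0 ∈ D.diagonalSubgroup F := mul_mem (hD_mem H r l0) hh
  have hXr : ∀ t, C.X F r t ∈ C.US F C.Pos := fun t => C.X_mem_US F (C.p_pos i) t
  have hYr : ∀ t, C.X F r.rev t ∈ C.US F C.Neg := fun t => C.X_mem_US F (C.rev_neg (C.p_pos i)) t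
  have hshift : ∀ c, ∃ m' ∈ C.US F C.Neg, C.X F r (c + c0) * z = m' * (C.X F r c * C.X F r.rev b) * h0 * v := by
    intro c
    set g := C.X F r c * C.X F r.rev b with hg
    refine ⟨g * m0 * g⁻¹, C.US_mono F Set.sdiff_subset (conj_negBut H i
      (mul_mem (Subgroup.mem_sup_left (C.X_mem_US F (S := {r}) rfl c))
        (Subgroup.mem_sup_right (C.X_mem_US F (S := {r.rev}) rfl b))) hm0), ?_⟩
    rw [← C.X_add, mul_assoc, e, hg]
    group
  have hcell : ∀ (c : F) (l' : Fˣ),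
      C.X F r (c + c0) * z ∈ CellAt C F (Core.hD F r l' * h) ↔
        ∃ d : Fˣ, (d : F) = 1 + c * b ∧ Core.hD F r (d * l0) = Core.hD F r l' := by
    intro c l'
    obtain ⟨m', hm', e'⟩ := hshift c
    have htar : Core.hD F r l' * h ∈ D.diagonalSubgroup F := mul_mem (hD_mem H r l') hh
    by_cases hd : 1 + c * b = 0
    · refine ⟨fun hc => ?_, fun ⟨d, hd', _⟩ => absurd (hd'.trans hd) d.ne_zero⟩
      exfalso
      obtain ⟨m₂, hm₂, v₂, hv₂, e₂⟩ := hc
      have hc0 : c ≠ 0 := fun h => by simp [h] at hd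
      rw [e', (rank_one H r c b).2 hd (Units.mk0 c hc0) rfl] at e₂
      refine nR_not_mem H σ hσ i (Units.mk0 c hc0) (m := m'⁻¹ * m₂) (h := Core.hD F r l' * h * h0⁻¹)
        (v := h0 * (v₂ * v⁻¹) * h0⁻¹ * (C.X F r (-c))⁻¹) (mul_mem (inv_mem hm') hm₂)
        (mul_mem htar (inv_mem hh0')) (mul_mem ((Subgroup.mem_normalizer_iff.1
          (C.diag_le_normalizer C.Pos hh0') _).1 (mul_mem hv₂ (inv_mem hv))) (inv_mem (hXr _))) ?_
      calc C.nR F r (Units.mk0 c hc0)
          = m'⁻¹ * (m' * (C.nR F r (Units.mk0 c hc0) * C.X F r (-c)) * h0 * v) * v⁻¹ * h0⁻¹ *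
              (C.X F r (-c))⁻¹ := by group
        _ = _ := by rw [e₂]; group
    · set d := Units.mk0 _ hd with hddef
      have hform : C.X F r (c + c0) * z = (m' * C.X F r.rev (b * (↑d⁻¹ : F))) * (Core.hD F r d * h0) *
          ((h0⁻¹ * C.X F r (c * (↑d⁻¹ : F)) * h0) * v) := by
        rw [e', (rank_one H r c b).1 d rfl]; group
      have hvU : (h0⁻¹ * C.X F r (c * (↑d⁻¹ : F)) * h0) * v ∈ C.US F C.Pos := by
        refine mul_mem ?_ hv
        have := (Subgroup.mem_normalizer_iff.1 (C.diag_le_normalizer C.Pos (inv_mem hh0')) _).1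
          (hXr (c * (↑d⁻¹ : F)))
        rwa [inv_inv] at this
      constructor
      · rintro ⟨m₂, hm₂, v₂, hv₂, e₂⟩
        refine ⟨d, rfl, ?_⟩
        have k1 : m' * C.X F r.rev (b * (↑d⁻¹ : F)) ∈ C.US F C.Neg := mul_mem hm' (hYr _)
        have k2 : Core.hD F r d * h0 ∈ D.diagonalSubgroup F := mul_mem (hD_mem H r d) hh0'
        have k3 := hform.symm.trans e₂
        obtain ⟨-, h2, -⟩ := cell_unique H k1 hm₂ k2 htar hvU hv₂ k3
        rw [hh0, ← mul_assoc, hD_mul H] at h2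
        exact mul_right_cancel h2
      · rintro ⟨d', hd', he⟩
        have : d' = d := Units.ext hd'
        subst this
        refine ⟨_, mul_mem hm' (hYr (b * (↑d⁻¹ : F))), _, hvU, ?_⟩
        rw [hform, hh0, ← mul_assoc (Core.hD F r d), hD_mul H, he]
  have hN : ∀ l' : Fˣ, ((Nat.card {c : F // C.X F r c * z ∈ CellAt C F (Core.hD F r l' * h)} : ℕ) : ZMod p) =
      if b = 0 then 0 else ((Nat.card {d : Fˣ // Core.hD F r d = 1} : ℕ) : ZMod p) := by
    intro l'
    rw [← Nat.card_congr ((Equiv.addRight c0).subtypeEquiv (p := fun c => ∃ d : Fˣ, (d : F) = 1 + c * b ∧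
      Core.hD F r (d * l0) = Core.hD F r l') fun c => (hcell c l').symm)]
    by_cases hb : b = 0
    · rw [if_pos hb]
      by_cases h1 : Core.hD F r l0 = Core.hD F r l'
      · rw [Nat.card_congr (Equiv.subtypeUnivEquiv fun c => ⟨1, by simp [hb], by rwa [one_mul]⟩)]
        obtain ⟨k, -, hq⟩ := FiniteField.card F p
        rw [Nat.card_eq_fintype_card, hq, Nat.cast_pow, ZMod.natCast_self, zero_pow k.ne_zero]
      · haveI : IsEmpty {c : F // ∃ d : Fˣ, (d : F) = 1 + c * b ∧ Core.hD F r (d * l0) = Core.hD F r l'} := by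
          refine ⟨fun c => h1 ?_⟩
          obtain ⟨d, hd, he⟩ := c.2
          have : d = 1 := Units.ext (by simpa [hb] using hd)
          rwa [this, one_mul] at he
        rw [Nat.card_of_isEmpty, Nat.cast_zero]
    · rw [if_neg hb]
      congr 1
      let e1 : {c : F // ∃ d : Fˣ, (d : F) = 1 + c * b ∧ Core.hD F r (d * l0) = Core.hD F r l'} ≃
          {d : Fˣ // Core.hD F r (d * l0) = Core.hD F r l'} :=
        { toFun := fun c => ⟨Units.mk0 (1 + c.1 * b) (by obtain ⟨d, hd, -⟩ := c.2; exact hd ▸ d.ne_zero), by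
            obtain ⟨d, hd, he⟩ := c.2
            rwa [show Units.mk0 (1 + c.1 * b) _ = d from Units.ext hd.symm]⟩
          invFun := fun d => ⟨((d.1 : F) - 1) / b, d.1, by field_simp; ring, d.2⟩
          left_inv := fun c => Subtype.ext (by simp [hb])
          right_inv := fun d => Subtype.ext (Units.ext (by simp; field_simp; ring)) }
      rw [Nat.card_congr e1]
      refine Nat.card_congr ((Equiv.mulRight (l0 * l'⁻¹)).subtypeEquiv fun d => ?_)
      show Core.hD F r (d * l0) = Core.hD F r l' ↔ Core.hD F r (d * (l0 * l'⁻¹)) = 1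
      rw [← mul_assoc, ← hD_mul H (a := d * l0)]
      have h1 : Core.hD F r l' * Core.hD F r l'⁻¹ = 1 := by
        rw [hD_mul H, mul_inv_cancel, C.hD_eq_HT, ← C.HT_one F]
        congr 1; funext j; simp
      constructor
      · intro he; rw [he, h1]
      · intro he; exact mul_right_cancel (he.trans h1.symm)
  rw [hN l, hN 1]

/-- Counting translates in the big cell. -/
noncomputable def cnt (C : Core D) (y h : GL D.Idx F) : ℕ :=
  Nat.card {u : C.US F C.Pos // (u : GL D.Idx F)⁻¹ * y ∈ CellAt C F h}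

theorem cnt_hD (i : Fin D.rank) (y h : GL D.Idx F) (hh : h ∈ D.diagonalSubgroup F) (l : Fˣ) :
    (cnt C y (Core.hD F (C.p i) l * h) : ZMod p) = (cnt C y h : ZMod p) := by
  classical
  suffices key : ∀ l, (cnt C y (Core.hD F (C.p i) l * h) : ZMod p) = (cnt C y (Core.hD F (C.p i) 1 * h) : ZMod p) by
    have h1 : Core.hD F (C.p i) 1 * h = h := by
      rw [C.hD_eq_HT, show (fun j => (1 : Fˣ) ^ co D (C.p i) j) = 1 by funext j; simp, C.HT_one, one_mul]
    rw [key l, h1]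
  intro l
  set U := C.US F C.Pos with hUdef
  set X := (C.US F {C.p i}).subgroupOf U with hXdef
  have hxmem : ∀ t : F, C.X F (C.p i) t ∈ U := fun t => C.X_mem_US F (C.p_pos i) t
  have hbij : Function.Bijective (fun t : (U ⧸ X) × F =>
      t.1.out * (⟨C.X F (C.p i) (-t.2), hxmem _⟩ : U)) := by
    refine ⟨fun s t e => ?_, fun u => ?_⟩
    · have hx : ∀ c : F, (⟨C.X F (C.p i) c, hxmem _⟩ : U) ∈ X := fun c =>
        Subgroup.mem_subgroupOf.mpr (C.X_mem_US F (S := {C.p i}) rfl c)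
      have h1 := congrArg (fun u : U => (QuotientGroup.mk u : U ⧸ X)) e
      simp only [QuotientGroup.mk_mul_of_mem _ (hx _), QuotientGroup.out_eq'] at h1
      refine Prod.ext h1 ?_
      simp only [h1, mul_right_inj] at e
      have e' := congrArg Subtype.val e
      have : C.X F (C.p i) (-s.2 + t.2) = 1 := by
        rw [← C.X_add, show C.X F (C.p i) (-s.2) = C.X F (C.p i) (-t.2) from e', C.X_add, neg_add_cancel,
          C.X_zero]
      linear_combination -(C.X_eq_one this)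
    · obtain ⟨w, hw⟩ := QuotientGroup.mk_out_eq_mul X u
      obtain ⟨t, ht⟩ := C.mem_US_singleton (Subgroup.mem_subgroupOf.mp w.2)
      refine ⟨(QuotientGroup.mk u, t), ?_⟩
      show (QuotientGroup.mk u : U ⧸ X).out * _ = u
      rw [hw, mul_assoc]
      refine mul_eq_left.mpr (Subtype.ext ?_)
      show ((w : U) : GL D.Idx F) * C.X F (C.p i) (-t) = 1
      rw [ht, C.X_add, add_neg_cancel, C.X_zero]
  have hsum : ∀ l' : Fˣ, cnt C y (Core.hD F (C.p i) l' * h) = ∑ q : U ⧸ X,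
      Nat.card {c : F // C.X F (C.p i) c * ((q.out : GL D.Idx F)⁻¹ * y) ∈ CellAt C F (Core.hD F (C.p i) l' * h)} := by
    intro l'
    rw [cnt, ← Nat.card_sigma, ← Nat.card_congr ((Equiv.ofBijective _ hbij).subtypeEquiv
      (p := fun t : (U ⧸ X) × F => C.X F (C.p i) t.2 * ((t.1.out : GL D.Idx F)⁻¹ * y) ∈
        CellAt C F (Core.hD F (C.p i) l' * h)) fun t => ?_)]
    · exact Nat.card_congr (Equiv.subtypeProdEquivSigmaSubtype (fun (q : U ⧸ X) (c : F) =>
        C.X F (C.p i) c * ((q.out : GL D.Idx F)⁻¹ * y) ∈ CellAt C F (Core.hD F (C.p i) l' * h)))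
    · show _ ↔ ((t.1.out : GL D.Idx F) * C.X F (C.p i) (-t.2))⁻¹ * y ∈ _
      rw [mul_inv_rev, ← C.X_inv, inv_inv, mul_assoc]
  rw [hsum, hsum, Nat.cast_sum, Nat.cast_sum]
  exact Finset.sum_congr rfl fun q _ => fibre H σ hσ p i h _ hh l

theorem cnt_diag (y h : GL D.Idx F) (hh : h ∈ D.diagonalSubgroup F) :
    (cnt C y h : ZMod p) = (cnt C y 1 : ZMod p) := by
  obtain ⟨c, rfl⟩ := C.mem_diagonal_iff.1 hh
  rw [C.HT_list]
  induction (List.finRange D.rank) with
  | nil => rfl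
  | cons i L ih =>
    rw [List.map_cons, List.prod_cons, cnt_hD H σ hσ p i y _ ?_ (c i), ih]
    exact list_prod_mem fun g hg => by
      obtain ⟨j, -, rfl⟩ := List.mem_map.1 hg
      exact hD_mem H _ _

end Cfsg.Agent.Lib.ChevBlocks49.Cell
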